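import Cfsg.Agent.Spor.ThL.L.D0

set_option autoImplicit false
set_option maxRecDepth 100000000
set_option Elab.async false

namespace Cfsg.Agent.Spor.ThL.L

theorem rel3 : U.rel 10 [2, 6, 1, 5] 0 10 = true := by decide +kernel

theorem rel4 : U.rel 10 [2, 8, 1, 7] 0 10 = true := by decide +kernel

theorem rel5 : U.rel 10 [2, 10, 1, 9] 0 10 = true := by decide +kernel

theorem gr7 : sub M6 (U.growI W1 [1, 2, 3, 4, 5, 5, 4, 3, 2, 1, 0, 1, 2, 3, 4, 5, 5, 4, 3, 2, 1, 0, 3] (Nat.shiftLeft 1 0)) = true := by decide +kernel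

theorem cl9 : band (U.closedW W1 M6) (sub (Nat.shiftLeft 1 0) M6) = true := by decide +kernel

theorem sz10 : sizeOk 10 M6 819 = true := by decide +kernel

theorem fx12 : U.closedW W2 (Nat.shiftLeft 1 0) = true := by decide +kernel

theorem gr14 : sub M13 (U.growI W2 [0, 1, 2, 3, 4, 4, 3, 2, 1, 2, 3, 4, 4, 3, 2, 1, 2, 3, 4, 4, 3, 1, 2, 3, 4, 4, 3] (Nat.shiftLeft 1 1)) = true := by decide +kernel

theorem cl16 : band (U.closedW W2 M13) (sub (Nat.shiftLeft 1 1) M13) = true := by decide +kernel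

theorem sz17 : sizeOk 10 M13 512 = true := by decide +kernel

theorem fx20 : U.closedW W19 (Nat.shiftLeft 1 1) = true := by decide +kernel

theorem gr22 : sub M21 (U.growI W19 [0, 1, 2, 2, 1, 0] (Nat.shiftLeft 1 3)) = true := by decide +kernel

theorem cl24 : band (U.closedW W19 M21) (sub (Nat.shiftLeft 1 3) M21) = true := by decide +kernel

theorem sz25 : sizeOk 10 M21 9 = true := by decide +kernel

theorem fx28 : U.closedW W27 (Nat.shiftLeft 1 3) = true := by decide +kernel

theorem gr30 : sub M29 (U.growI W27 [0, 1, 1, 0, 1, 1, 0, 1, 1, 1, 1] (Nat.shiftLeft 1 25)) = true := by decide +kernel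

theorem cl32 : band (U.closedW W27 M29) (sub (Nat.shiftLeft 1 25) M29) = true := by decide +kernel

theorem sz33 : sizeOk 10 M29 56 = true := by decide +kernel

end Cfsg.Agent.Spor.ThL.L
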