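import Cfsg.Agent.Spor.Chk2
import Cfsg.Agent.Spor.ThL.D0

set_option autoImplicit false
set_option maxRecDepth 100000000
set_option Elab.async false
noncomputable section

namespace Cfsg.Agent.Spor.ThL.L

def W1 : List (List Nat) := [[1], [3], [5], [7], [9], [11]]

def W2 : List (List Nat) := [[1], [5], [7], [9], [11]]

def EXU : List (List Nat) := [[], [0], [1], [2], [3], [4], [5], [6], [7], [8], [9], [10], [11]]
def LU : List Nat := [1, 2, 3, 4, 5, 6, 7, 8, 9, 10, 11, 12]

def XN : List (List Nat) := [[4, 0, 5, 1], [6, 0, 7, 1], [8, 0, 9, 1]]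

def M6 : Nat := nat_lit 0x7ffffffffffffffffffffffffffffffffffffffffffffffffffffffffffffffffffffffffffffffffffffffffffffffffffffffffffffffffffffffffffffffffffffffffffffffffffffffffffffffffffffffffffffffffffffffffffffffffffffffffffff

def M13 : Nat := nat_lit 0x7fffffff7fe3fffffeeffa3ffffffffff01fffff0200fffffff6203ffc000fffffffffffff02003fffe800003ffffffffd00007e000efffffffffe800003ff0001ffffffc001c021fffffff0001e00ffff804003fffc0103fe0000ff803f8007f0fc07e71dbbe

def W19 : List (List Nat) := [[7], [9], [11]]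

def M21 : Nat := nat_lit 0x40000070018228

def W27 : List (List Nat) := [[9], [11]]

def M29 : Nat := nat_lit 0x1000000000000000003e000000000000000000000fe000000000007ff000000000003fc0000001fe000002f00000bc000300006004002000000

def U : Tab := ⟨[n0, n1, n2, n3, n4, n5], [⟨0, false, 0, 0, []⟩, ⟨0, false, 0, 0, []⟩, ⟨0, true, 0, 0, []⟩, ⟨1, false, 0, 0, []⟩, ⟨1, true, 0, 0, []⟩, ⟨2, false, 0, 0, []⟩, ⟨2, true, 0, 0, []⟩, ⟨3, false, 0, 0, []⟩, ⟨3, true, 0, 0, []⟩, ⟨4, false, 0, 0, []⟩, ⟨4, true, 0, 0, []⟩, ⟨5, false, 0, 0, []⟩, ⟨5, true, 0, 0, []⟩]⟩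

end Cfsg.Agent.Spor.ThL.L
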